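import Cfsg.Agent.Lib.T3.Hlp

/-! A model of `S₄ ≀ Z₂` and facts about it (generated data, helper23). -/

set_option autoImplicit false
set_option maxRecDepth 1000000
set_option maxHeartbeats 0

namespace Cfsg.Lib.SW

open Cfsg.Lib.Calc Cfsg.Lib.Grp Cfsg.Lib.T2 Cfsg.Lib.T3

def sw_L0 : List (ℕ × List ℕ) := [((nat_lit 0), [(nat_lit 16434824), (nat_lit 16434369), (nat_lit 16433690), (nat_lit 6852524), (nat_lit 16433235), (nat_lit 6852069), (nat_lit 6851390), (nat_lit 6850935)]),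
  ((nat_lit 4), [(nat_lit 16434824), (nat_lit 15947400), (nat_lit 16148104), (nat_lit 13825672)]),
  ((nat_lit 2), [(nat_lit 16434824), (nat_lit 16434264), (nat_lit 16434376)]),
  ((nat_lit 6), [(nat_lit 16434824), (nat_lit 14141064), (nat_lit 12535432)]),
  ((nat_lit 5), [(nat_lit 16434824), (nat_lit 12306056)]),
  ((nat_lit 1), [(nat_lit 16434824), (nat_lit 16433816)])]

def sw_D0 : List ℕ := [(nat_lit 0), (nat_lit 513), (nat_lit 2049), (nat_lit 3585), (nat_lit 159746), (nat_lit 172546), (nat_lit 200194), (nat_lit 247298), (nat_lit 0), (nat_lit 4609), (nat_lit 4865), (nat_lit 431106), (nat_lit 0), (nat_lit 194306), (nat_lit 79618), (nat_lit 0), (nat_lit 506882), (nat_lit 79106), (nat_lit 0), (nat_lit 9204483), (nat_lit 0), (nat_lit 47494915)]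

def sw_L1 : List (ℕ × List ℕ) := [((nat_lit 0), [(nat_lit 16434824), (nat_lit 16434369), (nat_lit 16433690), (nat_lit 6852524), (nat_lit 16433235), (nat_lit 6852069), (nat_lit 6851390), (nat_lit 6850935)]),
  ((nat_lit 4), [(nat_lit 16434824), (nat_lit 14571144), (nat_lit 11789960), (nat_lit 9926280)]),
  ((nat_lit 2), [(nat_lit 16434824), (nat_lit 16434376)]),
  ((nat_lit 6), [(nat_lit 16434824), (nat_lit 14599816)])]

def sw_D1 : List ℕ := [(nat_lit 0), (nat_lit 513), (nat_lit 2049), (nat_lit 3585), (nat_lit 112642), (nat_lit 123394), (nat_lit 146946), (nat_lit 187906), (nat_lit 0), (nat_lit 1025), (nat_lit 3073), (nat_lit 333826), (nat_lit 0), (nat_lit 69378), (nat_lit 0), (nat_lit 126722)]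

def sw_L2 : List (ℕ × List ℕ) := [((nat_lit 0), [(nat_lit 16434824), (nat_lit 16434369), (nat_lit 16433690), (nat_lit 16433235)]),
  ((nat_lit 4), [(nat_lit 16434824), (nat_lit 14571144), (nat_lit 11789960), (nat_lit 9926280)]),
  ((nat_lit 2), [(nat_lit 16434824), (nat_lit 16434376)]),
  ((nat_lit 6), [(nat_lit 16434824), (nat_lit 14599816)])]

def sw_D2 : List ℕ := [(nat_lit 0), (nat_lit 513), (nat_lit 2049), (nat_lit 83970), (nat_lit 0), (nat_lit 1025), (nat_lit 3073), (nat_lit 175106), (nat_lit 0), (nat_lit 53506), (nat_lit 0), (nat_lit 98562)]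

def sw_L3 : List (ℕ × List ℕ) := [((nat_lit 0), [(nat_lit 16434824), (nat_lit 16434369)]),
  ((nat_lit 4), [(nat_lit 16434824), (nat_lit 14571144)]),
  ((nat_lit 6), [(nat_lit 16434824), (nat_lit 14599816)]),
  ((nat_lit 2), [(nat_lit 16434824), (nat_lit 16434376)])]

def sw_D3 : List ℕ := [(nat_lit 0), (nat_lit 513), (nat_lit 0), (nat_lit 1025), (nat_lit 0), (nat_lit 35074), (nat_lit 0), (nat_lit 52482)]

def sw_L4 : List (ℕ × List ℕ) := [((nat_lit 0), [(nat_lit 16434824), (nat_lit 16434369), (nat_lit 16433690), (nat_lit 16433235)]),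
  ((nat_lit 4), [(nat_lit 16434824), (nat_lit 14571144)]),
  ((nat_lit 6), [(nat_lit 16434824), (nat_lit 14599816)])]

def sw_D4 : List ℕ := [(nat_lit 0), (nat_lit 513), (nat_lit 2049), (nat_lit 51202), (nat_lit 0), (nat_lit 1025), (nat_lit 0), (nat_lit 42242)]

def sw_L5 : List (ℕ × List ℕ) := [((nat_lit 0), [(nat_lit 16434824), (nat_lit 16434369)]),
  ((nat_lit 4), [(nat_lit 16434824), (nat_lit 14571144)])]

def sw_D5 : List ℕ := [(nat_lit 0), (nat_lit 513), (nat_lit 0), (nat_lit 1025)]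

def sw_L6 : List (ℕ × List ℕ) := [((nat_lit 0), [(nat_lit 16434824), (nat_lit 16434369), (nat_lit 16433690), (nat_lit 6823852), (nat_lit 6852517), (nat_lit 16433235), (nat_lit 6822718), (nat_lit 6851383)]),
  ((nat_lit 4), [(nat_lit 16434824), (nat_lit 14571144), (nat_lit 11789960), (nat_lit 9926280)]),
  ((nat_lit 2), [(nat_lit 16434824), (nat_lit 14599368)])]

def sw_D6 : List ℕ := [(nat_lit 0), (nat_lit 513), (nat_lit 1537), (nat_lit 3073), (nat_lit 3329), (nat_lit 99842), (nat_lit 122882), (nat_lit 159746), (nat_lit 0), (nat_lit 1025), (nat_lit 2049), (nat_lit 296962), (nat_lit 0), (nat_lit 4278531)]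

def sw_L7 : List (ℕ × List ℕ) := [((nat_lit 0), [(nat_lit 16434824), (nat_lit 16434369), (nat_lit 16433690), (nat_lit 16433235)]),
  ((nat_lit 4), [(nat_lit 16434824), (nat_lit 14571144)]),
  ((nat_lit 6), [(nat_lit 16434824), (nat_lit 14599816)]),
  ((nat_lit 2), [(nat_lit 16434824), (nat_lit 16434376)])]

def sw_D7 : List ℕ := [(nat_lit 0), (nat_lit 513), (nat_lit 2561), (nat_lit 67074), (nat_lit 0), (nat_lit 1025), (nat_lit 0), (nat_lit 45826), (nat_lit 0), (nat_lit 65282)]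

def sw_L8 : List (ℕ × List ℕ) := [((nat_lit 0), [(nat_lit 16434824), (nat_lit 16434369), (nat_lit 16433690), (nat_lit 16433235)]),
  ((nat_lit 2), [(nat_lit 16434824), (nat_lit 16434376)])]

def sw_D8 : List ℕ := [(nat_lit 0), (nat_lit 513), (nat_lit 1537), (nat_lit 37378), (nat_lit 0), (nat_lit 21250)]

def sw_L9 : List (ℕ × List ℕ) := [((nat_lit 4), [(nat_lit 16434824), (nat_lit 14571144), (nat_lit 11789960), (nat_lit 9926280)]),
  ((nat_lit 6), [(nat_lit 16434824), (nat_lit 14599816)])]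

def sw_D9 : List ℕ := [(nat_lit 0), (nat_lit 513), (nat_lit 1537), (nat_lit 37378), (nat_lit 0), (nat_lit 21250)]

def sw_L10 : List (ℕ × List ℕ) := [((nat_lit 0), [(nat_lit 16434824), (nat_lit 6852524), (nat_lit 14570689), (nat_lit 11788826), (nat_lit 4988389), (nat_lit 2206526), (nat_lit 9924691), (nat_lit 342391)]),
  ((nat_lit 2), [(nat_lit 16434824), (nat_lit 14599368)])]

def sw_D10 : List ℕ := [(nat_lit 0), (nat_lit 513), (nat_lit 1025), (nat_lit 2049), (nat_lit 56322), (nat_lit 63490), (nat_lit 80898), (nat_lit 112642), (nat_lit 0), (nat_lit 46850)]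

def sw_L11 : List (ℕ × List ℕ) := [((nat_lit 0), [(nat_lit 16434824), (nat_lit 16434369), (nat_lit 16433690), (nat_lit 16433235)]),
  ((nat_lit 1), [(nat_lit 16434824), (nat_lit 16434264), (nat_lit 16433872)])]

def sw_D11 : List ℕ := [(nat_lit 0), (nat_lit 513), (nat_lit 1025), (nat_lit 36866), (nat_lit 0), (nat_lit 30466), (nat_lit 52994)]

def sw_L12 : List (ℕ × List ℕ) := [((nat_lit 4), [(nat_lit 16434824), (nat_lit 14571144), (nat_lit 11789960), (nat_lit 9926280)]),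
  ((nat_lit 6), [(nat_lit 16434824), (nat_lit 14141064), (nat_lit 14599816)]),
  ((nat_lit 5), [(nat_lit 16434824), (nat_lit 12306056)])]

def sw_D12 : List ℕ := [(nat_lit 0), (nat_lit 513), (nat_lit 1537), (nat_lit 50690), (nat_lit 0), (nat_lit 44290), (nat_lit 25858), (nat_lit 0), (nat_lit 3863811)]

def sw_L13 : List (ℕ × List ℕ) := [((nat_lit 0), [(nat_lit 16434824), (nat_lit 16434369), (nat_lit 16433690), (nat_lit 16433235)])]

def sw_D13 : List ℕ := [(nat_lit 0), (nat_lit 513), (nat_lit 1025), (nat_lit 25602)]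

def sw_L14 : List (ℕ × List ℕ) := [((nat_lit 0), [(nat_lit 16434824), (nat_lit 16434369)]),
  ((nat_lit 4), [(nat_lit 16434824), (nat_lit 14571144)]),
  ((nat_lit 2), [(nat_lit 16434824), (nat_lit 16434376)])]

def sw_D14 : List ℕ := [(nat_lit 0), (nat_lit 513), (nat_lit 0), (nat_lit 1025), (nat_lit 0), (nat_lit 30466)]

def sw : PM :=
  ⟨(nat_lit 8), (nat_lit 3), [(nat_lit 16434369), (nat_lit 14571144), (nat_lit 16434817), (nat_lit 16433690), (nat_lit 16406152), (nat_lit 11789960), (nat_lit 6852524), (nat_lit 16434705), (nat_lit 15947400)],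
    [[.l 1, .l 2, .l 3, .l 4, .l 5, .l 6, .l 7, .l 8, .l 9],
    [.l 1, .l 2, .l 3, .l 4, .l 5, .l 6, .l 7],
    [.l 1, .l 2, .l 3, .l 4, .l 5, .l 6],
    [.l 1, .l 2, .l 5, .l 3],
    [.l 1, .l 2, .l 5, .l 4],
    [.l 1, .l 2],
    [.l 1, .l 2, .l 4, .l 6, .mul (.l 3) (.l 5), .mul (.l 3) (.l 7)],
    [.l 1, .l 2, .l 5, .l 3, .l 4],
    [.l 1, .l 3, .l 4],
    [.l 2, .l 5, .l 6],
    [.l 7, .mul (.l 1) (.l 2), .mul (.l 3) (.l 5), .mul (.l 4) (.l 6)],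
    [.l 1, .l 4, .l 8],
    [.l 2, .l 5, .l 6, .l 9],
    [.l 1, .l 4],
    [.l 1, .l 2, .l 3]],
    [sw_L0, sw_L1, sw_L2, sw_L3, sw_L4, sw_L5, sw_L6, sw_L7, sw_L8, sw_L9, sw_L10, sw_L11, sw_L12, sw_L13, sw_L14], [sw_D0, sw_D1, sw_D2, sw_D3, sw_D4, sw_D5, sw_D6, sw_D7, sw_D8, sw_D9, sw_D10, sw_D11, sw_D12, sw_D13, sw_D14]⟩

instance sw_ne : NeZero sw.n := ⟨by decide⟩

theorem sw_ok0 : sw.ok0 = true := by decide +kernel

theorem sw_k0 : allFrom (nat_lit 0) (nat_lit 1) sw.okK = true := by decide +kernel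

theorem sw_k1 : allFrom (nat_lit 1) (nat_lit 1) sw.okK = true := by decide +kernel

theorem sw_k2 : allFrom (nat_lit 2) (nat_lit 1) sw.okK = true := by decide +kernel

theorem sw_k3 : allFrom (nat_lit 3) (nat_lit 1) sw.okK = true := by decide +kernel

theorem sw_k4 : allFrom (nat_lit 4) (nat_lit 1) sw.okK = true := by decide +kernel

theorem sw_k5 : allFrom (nat_lit 5) (nat_lit 1) sw.okK = true := by decide +kernel

theorem sw_k6 : allFrom (nat_lit 6) (nat_lit 1) sw.okK = true := by decide +kernel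

theorem sw_k7 : allFrom (nat_lit 7) (nat_lit 1) sw.okK = true := by decide +kernel

theorem sw_k8 : allFrom (nat_lit 8) (nat_lit 1) sw.okK = true := by decide +kernel

theorem sw_k9 : allFrom (nat_lit 9) (nat_lit 1) sw.okK = true := by decide +kernel

theorem sw_k10 : allFrom (nat_lit 10) (nat_lit 1) sw.okK = true := by decide +kernel

theorem sw_k11 : allFrom (nat_lit 11) (nat_lit 1) sw.okK = true := by decide +kernel

theorem sw_k12 : allFrom (nat_lit 12) (nat_lit 1) sw.okK = true := by decide +kernel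

theorem sw_k13 : allFrom (nat_lit 13) (nat_lit 1) sw.okK = true := by decide +kernel

theorem sw_k14 : allFrom (nat_lit 14) (nat_lit 1) sw.okK = true := by decide +kernel

theorem sw_ok : sw.OK := PM.OK.of_check sw_ok0
  (of_allFrom_append (of_allFrom_append (of_allFrom_append (of_allFrom_append (of_allFrom_append (of_allFrom_append (of_allFrom_append (of_allFrom_append (of_allFrom_append (of_allFrom_append (of_allFrom_append (of_allFrom_append (of_allFrom_append (of_allFrom_append (of_allFrom_append of_lt_zero sw_k0) sw_k1) sw_k2) sw_k3) sw_k4) sw_k5) sw_k6) sw_k7) sw_k8) sw_k9) sw_k10) sw_k11) sw_k12) sw_k13) sw_k14)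

theorem sw_card0 : Nat.card (genW sw.gam (sw.ws 0)) = 1152 := (sw_ok.card 0).trans (by decide +kernel)

theorem sw_card1 : Nat.card (genW sw.gam (sw.ws 1)) = 128 := (sw_ok.card 1).trans (by decide +kernel)

theorem sw_card2 : Nat.card (genW sw.gam (sw.ws 2)) = 64 := (sw_ok.card 2).trans (by decide +kernel)

theorem sw_card3 : Nat.card (genW sw.gam (sw.ws 3)) = 16 := (sw_ok.card 3).trans (by decide +kernel)

theorem sw_card4 : Nat.card (genW sw.gam (sw.ws 4)) = 16 := (sw_ok.card 4).trans (by decide +kernel)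

theorem sw_card5 : Nat.card (genW sw.gam (sw.ws 5)) = 4 := (sw_ok.card 5).trans (by decide +kernel)

theorem sw_card6 : Nat.card (genW sw.gam (sw.ws 6)) = 64 := (sw_ok.card 6).trans (by decide +kernel)

theorem sw_card7 : Nat.card (genW sw.gam (sw.ws 7)) = 32 := (sw_ok.card 7).trans (by decide +kernel)

theorem sw_card8 : Nat.card (genW sw.gam (sw.ws 8)) = 8 := (sw_ok.card 8).trans (by decide +kernel)

theorem sw_card9 : Nat.card (genW sw.gam (sw.ws 9)) = 8 := (sw_ok.card 9).trans (by decide +kernel)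

theorem sw_card10 : Nat.card (genW sw.gam (sw.ws 10)) = 16 := (sw_ok.card 10).trans (by decide +kernel)

theorem sw_card11 : Nat.card (genW sw.gam (sw.ws 11)) = 12 := (sw_ok.card 11).trans (by decide +kernel)

theorem sw_card12 : Nat.card (genW sw.gam (sw.ws 12)) = 24 := (sw_ok.card 12).trans (by decide +kernel)

theorem sw_card13 : Nat.card (genW sw.gam (sw.ws 13)) = 4 := (sw_ok.card 13).trans (by decide +kernel)

theorem sw_card14 : Nat.card (genW sw.gam (sw.ws 14)) = 8 := (sw_ok.card 14).trans (by decide +kernel)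

/-- a formula -/
def f_out_f : Fm := .all 1 40 [] (.imp (.not (.mem 2 (.l 40))) (.imp (.one (.mul (.l 40) (.l 40))) (.all 1 41 [(.l 40, .l 40)] (.imp (.one (.mul (.l 41) (.l 41))) (.imp (.and (.not (.one (.l 41))) (.not (.eq (.l 41) (.l 40)))) (.all 1 42 [(.l 40, .l 40), (.l 41, .l 41)] (.imp (.one (.mul (.l 42) (.l 42))) (.imp (.and (.not (.one (.l 42))) (.and (.not (.eq (.l 42) (.l 40))) (.and (.not (.eq (.l 42) (.l 41))) (.not (.eq (.l 42) (.mul (.l 40) (.l 41))))))) (.all 1 43 [(.l 40, .l 40), (.l 41, .l 41), (.l 42, .l 42)] (.imp (.one (.mul (.l 43) (.l 43))) (.not (.and (.not (.one (.l 43))) (.and (.not (.eq (.l 43) (.l 40))) (.and (.not (.eq (.l 43) (.l 41))) (.and (.not (.eq (.l 43) (.mul (.l 40) (.l 41)))) (.and (.not (.eq (.l 43) (.l 42))) (.and (.not (.eq (.l 43) (.mul (.l 40) (.l 42)))) (.and (.not (.eq (.l 43) (.mul (.l 41) (.l 42)))) (.not (.eq (.l 43) (.mul (.mul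 (.l 40) (.l 41)) (.l 42))))))))))))))))))))))

theorem f_out_ev : sw.eval f_out_f = true := by decide +kernel

theorem f_out {G : Type*} [Group G] {γ : ℕ → G} {k : ℕ} {N : List W} (g : Gf sw γ k N)
    (e : tyB sw k N f_out_f = true := by decide +kernel) :
    ∀ y ∈ genW γ (sw.ws 1), y ∉ genW γ (sw.ws 2) → y * y = 1 → ∀ c ∈ genW γ (sw.ws 1), c * y = y * c → c * c = 1 → c ≠ 1 ∧ c ≠ y → ∀ d ∈ genW γ (sw.ws 1), d * y = y * d → d * c = c * d → d * d = 1 → d ≠ 1 ∧ d ≠ y ∧ d ≠ c ∧ d ≠ y * c → ∀ e ∈ genW γ (sw.ws 1), e * y = y * e → e * c = c * e → e * d = d * e → e * e = 1 → ¬ (e ≠ 1 ∧ e ≠ y ∧ e ≠ c ∧ e ≠ y * c ∧ e ≠ d ∧ e ≠ y * d ∧ e ≠ c * d ∧ e ≠ y * c * d) :=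
  g.transfer e f_out_ev

/-- a formula -/
def f_sq_f : Fm := .all 2 40 [] (.or (.one (.mul (.l 40) (.l 40))) (.or (.eq (.mul (.l 40) (.l 40)) (.l 1)) (.or (.eq (.mul (.l 40) (.l 40)) (.l 2)) (.all 2 41 [] (.imp (.eq (.mul (.mul (.l 40) (.l 41)) (.mul (.l 40) (.l 41))) (.mul (.l 40) (.l 40))) (.all 2 42 [] (.eq (.mul (.l 41) (.l 42)) (.mul (.l 42) (.l 41)))))))))

theorem f_sq_ev : sw.eval f_sq_f = true := by decide +kernel

theorem f_sq {G : Type*} [Group G] {γ : ℕ → G} {k : ℕ} {N : List W} (g : Gf sw γ k N)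
    (e : tyB sw k N f_sq_f = true := by decide +kernel) :
    ∀ e ∈ genW γ (sw.ws 2), e * e = 1 ∨ e * e = γ 1 ∨ e * e = γ 2 ∨ (∀ c ∈ genW γ (sw.ws 2), e * c * (e * c) = e * e → ∀ y ∈ genW γ (sw.ws 2), c * y = y * c) :=
  g.transfer e f_sq_ev

/-- a formula -/
def f_ca_f : Fm := .all 1 40 [(.l 1, .l 1)] (.mem 2 (.l 40))

theorem f_ca_ev : sw.eval f_ca_f = true := by decide +kernel

theorem f_ca {G : Type*} [Group G] {γ : ℕ → G} {k : ℕ} {N : List W} (g : Gf sw γ k N)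
    (e : tyB sw k N f_ca_f = true := by decide +kernel) :
    ∀ e ∈ genW γ (sw.ws 1), e * γ 1 = γ 1 * e → e ∈ genW γ (sw.ws 2) :=
  g.transfer e f_ca_ev

/-- a formula -/
def f_cb_f : Fm := .all 1 40 [(.l 2, .l 2)] (.mem 2 (.l 40))

theorem f_cb_ev : sw.eval f_cb_f = true := by decide +kernel

theorem f_cb {G : Type*} [Group G] {γ : ℕ → G} {k : ℕ} {N : List W} (g : Gf sw γ k N)
    (e : tyB sw k N f_cb_f = true := by decide +kernel) :
    ∀ e ∈ genW γ (sw.ws 1), e * γ 2 = γ 2 * e → e ∈ genW γ (sw.ws 2) :=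
  g.transfer e f_cb_ev

/-- a formula -/
def f_nj_f : Fm := .all 2 40 [] (.imp (.one (.mul (.l 40) (.l 40))) (.all 2 41 [(.l 40, .mul (.l 2) (.l 40))] (.imp (.one (.mul (.l 41) (.l 41))) (.all 2 42 [(.l 40, .l 40), (.l 41, .l 41)] (.imp (.one (.mul (.l 42) (.l 42))) (.all 2 43 [(.l 42, .mul (.l 1) (.l 42)), (.l 40, .l 40), (.l 41, .l 41)] (.imp (.one (.mul (.l 43) (.l 43))) (.or (.and (.mem 5 (.mul (.l 42) (.l 3))) (.mem 5 (.mul (.l 43) (.l 4)))) (.and (.mem 5 (.mul (.l 42) (.l 4))) (.mem 5 (.mul (.l 43) (.l 3))))))))))))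

theorem f_nj_ev : sw.eval f_nj_f = true := by decide +kernel

theorem f_nj {G : Type*} [Group G] {γ : ℕ → G} {k : ℕ} {N : List W} (g : Gf sw γ k N)
    (e : tyB sw k N f_nj_f = true := by decide +kernel) :
    ∀ c ∈ genW γ (sw.ws 2), c * c = 1 → ∀ d ∈ genW γ (sw.ws 2), d * c = γ 2 * c * d → d * d = 1 → ∀ e ∈ genW γ (sw.ws 2), e * c = c * e → e * d = d * e → e * e = 1 → ∀ f ∈ genW γ (sw.ws 2), f * e = γ 1 * e * f → f * c = c * f → f * d = d * f → f * f = 1 → e * γ 3 ∈ genW γ (sw.ws 5) ∧ f * γ 4 ∈ genW γ (sw.ws 5) ∨ e * γ 4 ∈ genW γ (sw.ws 5) ∧ f * γ 3 ∈ genW γ (sw.ws 5) :=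
  g.transfer e f_nj_ev

/-- a formula -/
def f_uv_f : Fm := .all 14 40 [] (.not (.mem 5 (.mul (.l 40) (.l 4))))

theorem f_uv_ev : sw.eval f_uv_f = true := by decide +kernel

theorem f_uv {G : Type*} [Group G] {γ : ℕ → G} {k : ℕ} {N : List W} (g : Gf sw γ k N)
    (e : tyB sw k N f_uv_f = true := by decide +kernel) :
    ∀ e ∈ genW γ (sw.ws 14), e * γ 4 ∉ genW γ (sw.ws 5) :=
  g.transfer e f_uv_ev

/-- a formula -/
def f_b16_f : Fm := .all 2 40 [] (.imp (.one (.mul (.l 40) (.l 40))) (.imp (.and (.not (.one (.l 40))) (.not (.eq (.l 40) (.l 1)))) (.all 2 41 [(.l 40, .l 40)] (.imp (.one (.mul (.l 41) (.l 41))) (.imp (.and (.not (.one (.l 41))) (.and (.not (.eq (.l 41) (.l 1))) (.and (.not (.eq (.l 41) (.l 40))) (.not (.eq (.l 41) (.mul (.l 1) (.l 40))))))) (.all 2 42 [(.l 40, .l 40), (.l 41, .l 41)] (.imp (.one (.mul (.l 42) (.l 42))) (.imp (.and (.not (.one (.l 42))) (.and (.not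 (.eq (.l 42) (.l 1))) (.and (.not (.eq (.l 42) (.l 40))) (.and (.not (.eq (.l 42) (.mul (.l 1) (.l 40)))) (.and (.not (.eq (.l 42) (.l 41))) (.and (.not (.eq (.l 42) (.mul (.l 1) (.l 41)))) (.and (.not (.eq (.l 42) (.mul (.l 40) (.l 41)))) (.not (.eq (.l 42) (.mul (.mul (.l 1) (.l 40)) (.l 41))))))))))) (.or (.eq (.l 2) (.l 40)) (.or (.eq (.l 2) (.l 41)) (.or (.eq (.l 2) (.l 42)) (.or (.eq (.l 2) (.mul (.l 40) (.l 41))) (.or (.eq (.l 2) (.mul (.l 40) (.l 42))) (.or (.eq (.l 2) (.mul (.l 41) (.l 42))) (.or (.eq (.l 2) (.mul (.mul (.l 40) (.l 41)) (.l 42))) (.or (.eq (.l 2) (.mul (.l 1) (.l 40))) (.or (.eq (.l 2) (.mul (.l 1) (.l 41))) (.or (.eq (.l 2) (.mul (.l 1) (.l 42))) (.or (.eq (.l 2) (.mul (.l 1) (.mul (.l 40) (.l 41)))) (.or (.eq (.l 2) (.mul (.l 1) (.mul (.l 40) (.l 42)))) (.or (.eq (.l 2) (.mul (.l 1) (.mul (.l 41) (.l 42)))) (.eq (.l 2) (.mul (.l 1) (.mul (.mul (.l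 40) (.l 41)) (.l 42)))))))))))))))))))))))))

theorem f_b16_ev : sw.eval f_b16_f = true := by decide +kernel

theorem f_b16 {G : Type*} [Group G] {γ : ℕ → G} {k : ℕ} {N : List W} (g : Gf sw γ k N)
    (e : tyB sw k N f_b16_f = true := by decide +kernel) :
    ∀ c ∈ genW γ (sw.ws 2), c * c = 1 → c ≠ 1 ∧ c ≠ γ 1 → ∀ d ∈ genW γ (sw.ws 2), d * c = c * d → d * d = 1 → d ≠ 1 ∧ d ≠ γ 1 ∧ d ≠ c ∧ d ≠ γ 1 * c → ∀ e ∈ genW γ (sw.ws 2), e * c = c * e → e * d = d * e → e * e = 1 → e ≠ 1 ∧ e ≠ γ 1 ∧ e ≠ c ∧ e ≠ γ 1 * c ∧ e ≠ d ∧ e ≠ γ 1 * d ∧ e ≠ c * d ∧ e ≠ γ 1 * c * d → γ 2 = c ∨ γ 2 = d ∨ γ 2 = e ∨ γ 2 = c * d ∨ γ 2 = c * e ∨ γ 2 = d * e ∨ γ 2 = c * d * e ∨ γ 2 = γ 1 * c ∨ γ 2 = γ 1 * d ∨ γ 2 = γ 1 * e ∨ γ 2 = γ 1 * (c * d) ∨ γ 2 = γ 1 * (c * e) ∨ γ 2 = γ 1 * (d * e) ∨ γ 2 = γ 1 * (c * d * e) :=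
  g.transfer e f_b16_ev

/-- a formula -/
def f_jj_f : Fm := .all 2 40 [] (.all 2 41 [] (.mem 5 (.mul (.mul (.mul (.l 40) (.l 41)) (.inv (.l 40))) (.inv (.l 41)))))

theorem f_jj_ev : sw.eval f_jj_f = true := by decide +kernel

theorem f_jj {G : Type*} [Group G] {γ : ℕ → G} {k : ℕ} {N : List W} (g : Gf sw γ k N)
    (e : tyB sw k N f_jj_f = true := by decide +kernel) :
    ∀ y ∈ genW γ (sw.ws 2), ∀ e ∈ genW γ (sw.ws 2), y * e * y⁻¹ * e⁻¹ ∈ genW γ (sw.ws 5) :=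
  g.transfer e f_jj_ev

/-- a formula -/
def f_t1_f : Fm := .all 3 40 [] (.imp (.mem 4 (.l 40)) (.imp (.mem 6 (.l 40)) (.or (.one (.l 40)) (.or (.eq (.l 40) (.l 1)) (.or (.eq (.l 40) (.l 2)) (.eq (.l 40) (.mul (.l 1) (.l 2))))))))

theorem f_t1_ev : sw.eval f_t1_f = true := by decide +kernel

theorem f_t1 {G : Type*} [Group G] {γ : ℕ → G} {k : ℕ} {N : List W} (g : Gf sw γ k N)
    (e : tyB sw k N f_t1_f = true := by decide +kernel) :
    ∀ e ∈ genW γ (sw.ws 3), e ∈ genW γ (sw.ws 4) → e ∈ genW γ (sw.ws 6) → e = 1 ∨ e = γ 1 ∨ e = γ 2 ∨ e = γ 1 * γ 2 :=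
  g.transfer e f_t1_ev

/-- a formula -/
def f_z8_f : Fm := .all 3 40 [] (.imp (.mem 4 (.l 40)) (.or (.or (.one (.l 40)) (.or (.eq (.l 40) (.l 1)) (.or (.eq (.l 40) (.l 2)) (.eq (.l 40) (.mul (.l 1) (.l 2)))))) (.or (.or (.eq (.l 40) (.mul (.l 5) (.l 2))) (.eq (.l 40) (.mul (.mul (.l 5) (.l 1)) (.l 2)))) (.or (.eq (.mul (.mul (.l 6) (.l 40)) (.inv (.l 6))) (.mul (.l 5) (.l 2))) (.eq (.mul (.mul (.l 6) (.l 40)) (.inv (.l 6))) (.mul (.mul (.l 5) (.l 1)) (.l 2)))))))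

theorem f_z8_ev : sw.eval f_z8_f = true := by decide +kernel

theorem f_z8 {G : Type*} [Group G] {γ : ℕ → G} {k : ℕ} {N : List W} (g : Gf sw γ k N)
    (e : tyB sw k N f_z8_f = true := by decide +kernel) :
    ∀ e ∈ genW γ (sw.ws 3), e ∈ genW γ (sw.ws 4) → (e = 1 ∨ e = γ 1 ∨ e = γ 2 ∨ e = γ 1 * γ 2) ∨ (e = γ 5 * γ 2 ∨ e = γ 5 * γ 1 * γ 2) ∨ γ 6 * e * (γ 6)⁻¹ = γ 5 * γ 2 ∨ γ 6 * e * (γ 6)⁻¹ = γ 5 * γ 1 * γ 2 :=
  g.transfer e f_z8_ev

/-- a formula -/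
def f_a1_f : Fm := .all 4 40 [] (.or (.mem 3 (.l 40)) (.or (.or (.eq (.l 40) (.l 4)) (.eq (.l 40) (.mul (.l 4) (.l 1)))) (.or (.or (.eq (.l 40) (.mul (.l 4) (.l 2))) (.eq (.l 40) (.mul (.mul (.l 4) (.l 1)) (.l 2)))) (.ex 0 41 [(.mul (.l 5) (.l 1), .l 40)] (.tt)))))

theorem f_a1_ev : sw.eval f_a1_f = true := by decide +kernel

theorem f_a1 {G : Type*} [Group G] {γ : ℕ → G} {k : ℕ} {N : List W} (g : Gf sw γ k N)
    (e : tyB sw k N f_a1_f = true := by decide +kernel) :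
    ∀ e ∈ genW γ (sw.ws 4), e ∈ genW γ (sw.ws 3) ∨ (e = γ 4 ∨ e = γ 4 * γ 1) ∨ (e = γ 4 * γ 2 ∨ e = γ 4 * γ 1 * γ 2) ∨ (∃ m ∈ genW γ (sw.ws 0), m * (γ 5 * γ 1) = e * m ∧ True) :=
  g.transfer e f_a1_ev

/-- a formula -/
def f_b1_f : Fm := .all 3 40 [] (.or (.mem 4 (.l 40)) (.or (.or (.eq (.l 40) (.mul (.l 3) (.l 2))) (.eq (.l 40) (.mul (.mul (.l 3) (.l 1)) (.l 2)))) (.or (.ex 0 41 [(.l 5, .l 40)] (.tt)) (.ex 0 41 [(.mul (.l 3) (.l 5), .l 40)] (.tt)))))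

theorem f_b1_ev : sw.eval f_b1_f = true := by decide +kernel

theorem f_b1 {G : Type*} [Group G] {γ : ℕ → G} {k : ℕ} {N : List W} (g : Gf sw γ k N)
    (e : tyB sw k N f_b1_f = true := by decide +kernel) :
    ∀ e ∈ genW γ (sw.ws 3), e ∈ genW γ (sw.ws 4) ∨ (e = γ 3 * γ 2 ∨ e = γ 3 * γ 1 * γ 2) ∨ (∃ m ∈ genW γ (sw.ws 0), m * γ 5 = e * m ∧ True) ∨ (∃ m ∈ genW γ (sw.ws 0), m * (γ 3 * γ 5) = e * m ∧ True) :=
  g.transfer e f_b1_ev

/-- a formula -/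
def f_pu_f : Fm := .all 2 40 [] (.imp (.one (.mul (.l 40) (.l 40))) (.imp (.not (.one (.l 40))) (.imp (.or (.mem 8 (.l 40)) (.mem 9 (.l 40))) (.or (.ex 0 41 [(.l 1, .l 40)] (.tt)) (.ex 0 41 [(.l 5, .l 40)] (.tt))))))

theorem f_pu_ev : sw.eval f_pu_f = true := by decide +kernel

theorem f_pu {G : Type*} [Group G] {γ : ℕ → G} {k : ℕ} {N : List W} (g : Gf sw γ k N)
    (e : tyB sw k N f_pu_f = true := by decide +kernel) :
    ∀ e ∈ genW γ (sw.ws 2), e * e = 1 → e ≠ 1 → e ∈ genW γ (sw.ws 8) ∨ e ∈ genW γ (sw.ws 9) → (∃ m ∈ genW γ (sw.ws 0), m * γ 1 = e * m ∧ True) ∨ (∃ m ∈ genW γ (sw.ws 0), m * γ 5 = e * m ∧ True) :=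
  g.transfer e f_pu_ev

/-- a formula -/
def f_mx_f : Fm := .all 2 40 [] (.imp (.one (.mul (.l 40) (.l 40))) (.imp (.not (.or (.mem 8 (.l 40)) (.mem 9 (.l 40)))) (.or (.ex 0 41 [(.mul (.l 1) (.l 2), .l 40)] (.tt)) (.or (.ex 0 41 [(.mul (.l 5) (.l 1), .l 40)] (.tt)) (.ex 0 41 [(.mul (.l 3) (.l 5), .l 40)] (.tt))))))

theorem f_mx_ev : sw.eval f_mx_f = true := by decide +kernel

theorem f_mx {G : Type*} [Group G] {γ : ℕ → G} {k : ℕ} {N : List W} (g : Gf sw γ k N)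
    (e : tyB sw k N f_mx_f = true := by decide +kernel) :
    ∀ e ∈ genW γ (sw.ws 2), e * e = 1 → ¬ (e ∈ genW γ (sw.ws 8) ∨ e ∈ genW γ (sw.ws 9)) → (∃ m ∈ genW γ (sw.ws 0), m * (γ 1 * γ 2) = e * m ∧ True) ∨ (∃ m ∈ genW γ (sw.ws 0), m * (γ 5 * γ 1) = e * m ∧ True) ∨ (∃ m ∈ genW γ (sw.ws 0), m * (γ 3 * γ 5) = e * m ∧ True) :=
  g.transfer e f_mx_ev

/-- a formula -/
def f_e8_f : Fm := .all 2 40 [] (.imp (.one (.mul (.l 40) (.l 40))) (.imp (.not (.or (.mem 8 (.l 40)) (.mem 9 (.l 40)))) (.all 2 41 [(.l 40, .l 40)] (.imp (.one (.mul (.l 41) (.l 41))) (.imp (.not (.or (.mem 8 (.l 41)) (.mem 9 (.l 41)))) (.imp (.not (.or (.mem 8 (.mul (.l 40) (.l 41))) (.mem 9 (.mul (.l 40) (.l 41))))) (.all 2 42 [(.l 40, .l 40), (.l 41, .l 41)] (.imp (.one (.mul (.l 42) (.l 42))) (.and (.not (.and (.or (.mem 8 (.l 42)) (.mem 9 (.l 42))) (.and (.or (.mem 8 (.mul (.l 42) (.l 40))) (.mem 9 (.mul (.l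 42) (.l 40)))) (.and (.or (.mem 8 (.mul (.l 42) (.l 41))) (.mem 9 (.mul (.l 42) (.l 41)))) (.or (.mem 8 (.mul (.l 42) (.mul (.l 40) (.l 41)))) (.mem 9 (.mul (.l 42) (.mul (.l 40) (.l 41))))))))) (.or (.or (.mem 8 (.l 42)) (.mem 9 (.l 42))) (.or (.or (.mem 8 (.mul (.l 42) (.l 40))) (.mem 9 (.mul (.l 42) (.l 40)))) (.or (.or (.mem 8 (.mul (.l 42) (.l 41))) (.mem 9 (.mul (.l 42) (.l 41)))) (.or (.mem 8 (.mul (.l 42) (.mul (.l 40) (.l 41)))) (.mem 9 (.mul (.l 42) (.mul (.l 40) (.l 41)))))))))))))))))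

theorem f_e8_ev : sw.eval f_e8_f = true := by decide +kernel

theorem f_e8 {G : Type*} [Group G] {γ : ℕ → G} {k : ℕ} {N : List W} (g : Gf sw γ k N)
    (e : tyB sw k N f_e8_f = true := by decide +kernel) :
    ∀ c ∈ genW γ (sw.ws 2), c * c = 1 → ¬ (c ∈ genW γ (sw.ws 8) ∨ c ∈ genW γ (sw.ws 9)) → ∀ d ∈ genW γ (sw.ws 2), d * c = c * d → d * d = 1 → ¬ (d ∈ genW γ (sw.ws 8) ∨ d ∈ genW γ (sw.ws 9)) → ¬ (c * d ∈ genW γ (sw.ws 8) ∨ c * d ∈ genW γ (sw.ws 9)) → ∀ e ∈ genW γ (sw.ws 2), e * c = c * e → e * d = d * e → e * e = 1 → ¬ ((e ∈ genW γ (sw.ws 8) ∨ e ∈ genW γ (sw.ws 9)) ∧ (e * c ∈ genW γ (sw.ws 8) ∨ e * c ∈ genW γ (sw.ws 9)) ∧ (e * d ∈ genW γ (sw.ws 8) ∨ e * d ∈ genW γ (sw.ws 9)) ∧ (e * (c * d) ∈ genW γ (sw.ws 8) ∨ e * (c * d) ∈ genW γ (sw.ws 9))) ∧ ((e ∈ genW γ (sw.ws 8) ∨ e ∈ genW γ (sw.ws 9)) ∨ (e * c ∈ genW γ (sw.ws 8) ∨ e * c ∈ genW γ (sw.ws 9)) ∨ (e * d ∈ genW γ (sw.ws 8)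 ∨ e * d ∈ genW γ (sw.ws 9)) ∨ e * (c * d) ∈ genW γ (sw.ws 8) ∨ e * (c * d) ∈ genW γ (sw.ws 9)) :=
  g.transfer e f_e8_ev

/-- a formula -/
def f_c4_f : Fm := .all 2 40 [] (.imp (.not (.or (.mem 8 (.mul (.l 40) (.l 40))) (.mem 9 (.mul (.l 40) (.l 40))))) (.all 2 41 [(.l 40, .l 40)] (.imp (.one (.mul (.l 41) (.l 41))) (.imp (.not (.one (.l 41))) (.imp (.not (.eq (.l 41) (.mul (.l 40) (.l 40)))) (.all 1 42 [(.l 41, .l 41)] (.mem 2 (.l 42))))))))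

theorem f_c4_ev : sw.eval f_c4_f = true := by decide +kernel

theorem f_c4 {G : Type*} [Group G] {γ : ℕ → G} {k : ℕ} {N : List W} (g : Gf sw γ k N)
    (e : tyB sw k N f_c4_f = true := by decide +kernel) :
    ∀ k ∈ genW γ (sw.ws 2), ¬ (k * k ∈ genW γ (sw.ws 8) ∨ k * k ∈ genW γ (sw.ws 9)) → ∀ e ∈ genW γ (sw.ws 2), e * k = k * e → e * e = 1 → e ≠ 1 → e ≠ k * k → ∀ f ∈ genW γ (sw.ws 1), f * e = e * f → f ∈ genW γ (sw.ws 2) :=
  g.transfer e f_c4_ev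

/-- a formula -/
def f_h1_f : Fm := .all 4 40 [] (.imp (.one (.mul (.mul (.l 40) (.mul (.mul (.l 8) (.l 40)) (.inv (.l 8)))) (.mul (.mul (.l 8) (.mul (.mul (.l 8) (.l 40)) (.inv (.l 8)))) (.inv (.l 8))))) (.ex 13 41 [] (.eq (.mul (.l 40) (.mul (.mul (.l 8) (.l 41)) (.inv (.l 8)))) (.l 41))))

theorem f_h1_ev : sw.eval f_h1_f = true := by decide +kernel

theorem f_h1 {G : Type*} [Group G] {γ : ℕ → G} {k : ℕ} {N : List W} (g : Gf sw γ k N)
    (e : tyB sw k N f_h1_f = true := by decide +kernel) :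
    ∀ c ∈ genW γ (sw.ws 4), c * (γ 8 * c * (γ 8)⁻¹) * (γ 8 * (γ 8 * c * (γ 8)⁻¹) * (γ 8)⁻¹) = 1 → ∃ e ∈ genW γ (sw.ws 13), c * (γ 8 * e * (γ 8)⁻¹) = e :=
  g.transfer e f_h1_ev

/-- a formula -/
def f_ca1_f : Fm := .all 2 40 [(.l 4, .l 4), (.l 5, .l 5)] (.mem 4 (.l 40))

theorem f_ca1_ev : sw.eval f_ca1_f = true := by decide +kernel

theorem f_ca1 {G : Type*} [Group G] {γ : ℕ → G} {k : ℕ} {N : List W} (g : Gf sw γ k N)
    (e : tyB sw k N f_ca1_f = true := by decide +kernel) :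
    ∀ e ∈ genW γ (sw.ws 2), e * γ 4 = γ 4 * e → e * γ 5 = γ 5 * e → e ∈ genW γ (sw.ws 4) :=
  g.transfer e f_ca1_ev

/-- a formula -/
def f_y_f : Fm := .all 2 40 [(.l 4, .l 4), (.l 8, .l 8)] (.mem 9 (.l 40))

theorem f_y_ev : sw.eval f_y_f = true := by decide +kernel

theorem f_y {G : Type*} [Group G] {γ : ℕ → G} {k : ℕ} {N : List W} (g : Gf sw γ k N)
    (e : tyB sw k N f_y_f = true := by decide +kernel) :
    ∀ e ∈ genW γ (sw.ws 2), e * γ 4 = γ 4 * e → e * γ 8 = γ 8 * e → e ∈ genW γ (sw.ws 9) :=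
  g.transfer e f_y_ev

/-- a formula -/
def f_d2_f : Fm := .all 9 40 [] (.imp (.one (.mul (.l 40) (.l 40))) (.imp (.not (.one (.l 40))) (.or (.ex 12 41 [(.l 2, .l 40)] (.tt)) (.ex 12 41 [(.l 5, .l 40)] (.tt)))))

theorem f_d2_ev : sw.eval f_d2_f = true := by decide +kernel

theorem f_d2 {G : Type*} [Group G] {γ : ℕ → G} {k : ℕ} {N : List W} (g : Gf sw γ k N)
    (e : tyB sw k N f_d2_f = true := by decide +kernel) :
    ∀ e ∈ genW γ (sw.ws 9), e * e = 1 → e ≠ 1 → (∃ m ∈ genW γ (sw.ws 12), m * γ 2 = e * m ∧ True) ∨ (∃ m ∈ genW γ (sw.ws 12), m * γ 5 = e * m ∧ True) :=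
  g.transfer e f_d2_ev

/-- a formula -/
def f_sd_f : Fm := .all 9 40 [] (.or (.one (.mul (.l 40) (.l 40))) (.eq (.mul (.l 40) (.l 40)) (.l 2)))

theorem f_sd_ev : sw.eval f_sd_f = true := by decide +kernel

theorem f_sd {G : Type*} [Group G] {γ : ℕ → G} {k : ℕ} {N : List W} (g : Gf sw γ k N)
    (e : tyB sw k N f_sd_f = true := by decide +kernel) :
    ∀ e ∈ genW γ (sw.ws 9), e * e = 1 ∨ e * e = γ 2 :=
  g.transfer e f_sd_ev

/-- a formula -/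
def f_v1_f : Fm := .all 13 40 [] (.or (.eq (.mul (.mul (.l 40) (.l 3)) (.inv (.l 40))) (.l 3)) (.eq (.mul (.mul (.l 40) (.l 3)) (.inv (.l 40))) (.mul (.l 3) (.l 1))))

theorem f_v1_ev : sw.eval f_v1_f = true := by decide +kernel

theorem f_v1 {G : Type*} [Group G] {γ : ℕ → G} {k : ℕ} {N : List W} (g : Gf sw γ k N)
    (e : tyB sw k N f_v1_f = true := by decide +kernel) :
    ∀ e ∈ genW γ (sw.ws 13), e * γ 3 * e⁻¹ = γ 3 ∨ e * γ 3 * e⁻¹ = γ 3 * γ 1 :=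
  g.transfer e f_v1_ev

/-- a formula -/
def f_z_f : Fm := .all 5 40 [] (.or (.one (.l 40)) (.or (.eq (.l 40) (.l 1)) (.or (.eq (.l 40) (.l 2)) (.eq (.l 40) (.mul (.l 1) (.l 2))))))

theorem f_z_ev : sw.eval f_z_f = true := by decide +kernel

theorem f_z {G : Type*} [Group G] {γ : ℕ → G} {k : ℕ} {N : List W} (g : Gf sw γ k N)
    (e : tyB sw k N f_z_f = true := by decide +kernel) :
    ∀ e ∈ genW γ (sw.ws 5), e = 1 ∨ e = γ 1 ∨ e = γ 2 ∨ e = γ 1 * γ 2 :=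
  g.transfer e f_z_ev


end Cfsg.Lib.SW
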